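import Groth.Agent.Lib.Depth.CM

/-!
Depth zero and associated primes.
-/

set_option autoImplicit false

universe u

open IsLocalRing

namespace Groth.Agent.Depth3

variable {A : Type u} [CommRing A] [IsLocalRing A] [IsNoetherianRing A] {M : Type u} [AddCommGroup M] [Module A M]
  [Module.Finite A M]

theorem forall_not_regular_iff_mem_associatedPrimes :
    (∀ x ∈ maximalIdeal A, ¬ IsSMulRegular M x) ↔ maximalIdeal A ∈ associatedPrimes A M := by
  constructor
  · intro h
    obtain ⟨p, hp, hle⟩ := Groth.Agent.DepthLib.exists_associatedPrime_ge (I := maximalIdeal A) h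
    rwa [(maximalIdeal.isMaximal A).eq_of_le (IsAssociatedPrime.isPrime hp).ne_top hle]
  · intro h x hx hreg
    have : x ∈ ({r : A | IsSMulRegular M r}ᶜ : Set A) := by
      rw [← biUnion_associatedPrimes_eq_compl_regular A M]
      exact Set.mem_biUnion h hx
    exact this hreg

theorem depth_eq_zero_iff :
    LocCoh.depth A M = 0 ↔ maximalIdeal A ∈ associatedPrimes A M := by
  rcases subsingleton_or_nontrivial M with h | h
  · refine iff_of_false ?_ ?_
    · unfold LocCoh.depth LocCoh.idealDepth
      rw [if_pos (Subsingleton.elim _ _)]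
      exact ENat.top_ne_zero
    · rintro ⟨hprime, m, hm⟩
      refine hprime.ne_top ?_
      rw [hm, Subsingleton.elim m 0]
      simp
  · rw [← forall_not_regular_iff_mem_associatedPrimes]
    constructor
    · intro h0 x hx hreg
      have h1 : (1 : ℕ∞) ≤ LocCoh.depth A M := Groth.Agent.DepthLib.one_le_idealDepth_of_regular hx hreg
      rw [h0] at h1
      simp at h1
    · intro h0
      exact Groth.Agent.DepthLib.idealDepth_eq_zero_of_forall_not_isSMulRegular
        (Groth.Agent.DepthLib.smul_top_ne_top (maximalIdeal.isMaximal A).ne_top) h0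

theorem mem_associatedPrimes_iff_exists (M : Type u) [AddCommGroup M] [Module A M] :
    maximalIdeal A ∈ associatedPrimes A M ↔ ∃ m : M, m ≠ 0 ∧ ∀ a ∈ maximalIdeal A, a • m = 0 := by
  rw [AssociatedPrimes.mem_iff, isAssociatedPrime_iff]
  constructor
  · rintro ⟨hp, m, hm⟩
    refine ⟨m, fun h => hp.ne_top (by rw [hm, h]; simp), fun a ha => ?_⟩
    rw [hm, Submodule.mem_colon_singleton] at ha
    exact (Submodule.mem_bot A).1 ha
  · rintro ⟨m, hm, hann⟩
    refine ⟨inferInstance, m, (maximalIdeal.isMaximal A).eq_of_le ?_ fun a ha => ?_⟩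
    · rw [Ne, Ideal.eq_top_iff_one, Submodule.mem_colon_singleton, one_smul, Submodule.mem_bot]
      exact hm
    · rw [Submodule.mem_colon_singleton, Submodule.mem_bot]
      exact hann a ha

end Groth.Agent.Depth3
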